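import Cfsg.Agent.Lib.Helper60.G24.ChkA0
import Cfsg.Agent.Lib.Helper60.G24.ChkA1
import Cfsg.Agent.Lib.Helper60.G24.ChkA2
import Cfsg.Agent.Lib.Helper60.G24.ChkA3

/-! Checks for the tables of `G₂(4)` (generated). -/

set_option autoImplicit false

namespace Cfsg.Agent.Lib.Helper60.G24

open Cfsg.Agent.Lib.Helper60.Cert

theorem C1ok_step : ∀ j < 4095, chkCAll model C1D j = true := by
  intro j hj
  rcases Nat.lt_or_ge j 256 with h0 | h0
  · exact allBelow_off (chkCAll model C1D) 0 256 C1ok_step_0 j (Nat.zero_le j) h0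
  rcases Nat.lt_or_ge j 512 with h1 | h1
  · exact allBelow_off (chkCAll model C1D) 256 256 C1ok_step_1 j h0 h1
  rcases Nat.lt_or_ge j 768 with h2 | h2
  · exact allBelow_off (chkCAll model C1D) 512 256 C1ok_step_2 j h1 h2
  rcases Nat.lt_or_ge j 1024 with h3 | h3
  · exact allBelow_off (chkCAll model C1D) 768 256 C1ok_step_3 j h2 h3
  rcases Nat.lt_or_ge j 1280 with h4 | h4
  · exact allBelow_off (chkCAll model C1D) 1024 256 C1ok_step_4 j h3 h4
  rcases Nat.lt_or_ge j 1536 with h5 | h5
  · exact allBelow_off (chkCAll model C1D) 1280 256 C1ok_step_5 j h4 h5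
  rcases Nat.lt_or_ge j 1792 with h6 | h6
  · exact allBelow_off (chkCAll model C1D) 1536 256 C1ok_step_6 j h5 h6
  rcases Nat.lt_or_ge j 2048 with h7 | h7
  · exact allBelow_off (chkCAll model C1D) 1792 256 C1ok_step_7 j h6 h7
  rcases Nat.lt_or_ge j 2304 with h8 | h8
  · exact allBelow_off (chkCAll model C1D) 2048 256 C1ok_step_8 j h7 h8
  rcases Nat.lt_or_ge j 2560 with h9 | h9
  · exact allBelow_off (chkCAll model C1D) 2304 256 C1ok_step_9 j h8 h9
  rcases Nat.lt_or_ge j 2816 with h10 | h10
  · exact allBelow_off (chkCAll model C1D) 2560 256 C1ok_step_10 j h9 h10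
  rcases Nat.lt_or_ge j 3072 with h11 | h11
  · exact allBelow_off (chkCAll model C1D) 2816 256 C1ok_step_11 j h10 h11
  rcases Nat.lt_or_ge j 3328 with h12 | h12
  · exact allBelow_off (chkCAll model C1D) 3072 256 C1ok_step_12 j h11 h12
  rcases Nat.lt_or_ge j 3584 with h13 | h13
  · exact allBelow_off (chkCAll model C1D) 3328 256 C1ok_step_13 j h12 h13
  rcases Nat.lt_or_ge j 3840 with h14 | h14
  · exact allBelow_off (chkCAll model C1D) 3584 256 C1ok_step_14 j h13 h14
  exact allBelow_off (chkCAll model C1D) 3840 255 C1ok_step_15 j h14 hj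
theorem C1ok_par_0 : allBelow (fun j => chkCPar model C1D (Nat.add 0 j)) 1024 = true := by decide +kernel
theorem C1ok_par_1 : allBelow (fun j => chkCPar model C1D (Nat.add 1024 j)) 1024 = true := by decide +kernel
theorem C1ok_par_2 : allBelow (fun j => chkCPar model C1D (Nat.add 2048 j)) 1024 = true := by decide +kernel
theorem C1ok_par_3 : allBelow (fun j => chkCPar model C1D (Nat.add 3072 j)) 1022 = true := by decide +kernel
theorem C1ok_par : ∀ j < 4094, chkCPar model C1D j = true := by
  intro j hj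
  rcases Nat.lt_or_ge j 1024 with h0 | h0
  · exact allBelow_off (chkCPar model C1D) 0 1024 C1ok_par_0 j (Nat.zero_le j) h0
  rcases Nat.lt_or_ge j 2048 with h1 | h1
  · exact allBelow_off (chkCPar model C1D) 1024 1024 C1ok_par_1 j h0 h1
  rcases Nat.lt_or_ge j 3072 with h2 | h2
  · exact allBelow_off (chkCPar model C1D) 2048 1024 C1ok_par_2 j h1 h2
  exact allBelow_off (chkCPar model C1D) 3072 1022 C1ok_par_3 j h2 hj
theorem C2ok_step_0 : allBelow (fun j => chkCAll model C2D (Nat.add 0 j)) 256 = true := by decide +kernel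
theorem C2ok_step_1 : allBelow (fun j => chkCAll model C2D (Nat.add 256 j)) 256 = true := by decide +kernel
theorem C2ok_step_2 : allBelow (fun j => chkCAll model C2D (Nat.add 512 j)) 256 = true := by decide +kernel
theorem C2ok_step_3 : allBelow (fun j => chkCAll model C2D (Nat.add 768 j)) 256 = true := by decide +kernel
theorem C2ok_step : ∀ j < 1024, chkCAll model C2D j = true := by
  intro j hj
  rcases Nat.lt_or_ge j 256 with h0 | h0
  · exact allBelow_off (chkCAll model C2D) 0 256 C2ok_step_0 j (Nat.zero_le j) h0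
  rcases Nat.lt_or_ge j 512 with h1 | h1
  · exact allBelow_off (chkCAll model C2D) 256 256 C2ok_step_1 j h0 h1
  rcases Nat.lt_or_ge j 768 with h2 | h2
  · exact allBelow_off (chkCAll model C2D) 512 256 C2ok_step_2 j h1 h2
  exact allBelow_off (chkCAll model C2D) 768 256 C2ok_step_3 j h2 hj
theorem C2ok_par_0 : allBelow (fun j => chkCPar model C2D (Nat.add 0 j)) 1023 = true := by decide +kernel
theorem C2ok_par : ∀ j < 1023, chkCPar model C2D j = true := by
  intro j hj
  exact allBelow_off (chkCPar model C2D) 0 1023 C2ok_par_0 j (Nat.zero_le j) hj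
theorem ok_b1_0 : allBelow (fun j => chkB1 jj kk (Nat.add 0 j)) 4095 = true := by decide +kernel
theorem ok_b1 : ∀ j < 4095, chkB1 jj kk j = true := by
  intro j hj
  exact allBelow_off (chkB1 jj kk) 0 4095 ok_b1_0 j (Nat.zero_le j) hj
theorem ok_b2_0 : allBelow (fun j => chkB2 k2 (Nat.add 0 j)) 1024 = true := by decide +kernel
theorem ok_b2 : ∀ j < 1024, chkB2 k2 j = true := by
  intro j hj
  exact allBelow_off (chkB2 k2) 0 1024 ok_b2_0 j (Nat.zero_le j) hj
theorem ok_fixT13_0 : allBelow (fun j => chkFix 13 TT (Nat.add 0 j)) 60 = true := by decide +kernel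
theorem ok_fixT13 : ∀ j < 60, chkFix 13 TT j = true := by
  intro j hj
  exact allBelow_off (chkFix 13 TT) 0 60 ok_fixT13_0 j (Nat.zero_le j) hj
theorem ok_fixT2_0 : allBelow (fun j => chkFix 2 TT (Nat.add 0 j)) 60 = true := by decide +kernel
theorem ok_fixT2 : ∀ j < 60, chkFix 2 TT j = true := by
  intro j hj
  exact allBelow_off (chkFix 2 TT) 0 60 ok_fixT2_0 j (Nat.zero_le j) hj
theorem ok_fixC2_0 : allBelow (fun j => chkFix 13 C2T (Nat.add 0 j)) 1024 = true := by decide +kernel
theorem ok_fixC2 : ∀ j < 1024, chkFix 13 C2T j = true := by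
  intro j hj
  exact allBelow_off (chkFix 13 C2T) 0 1024 ok_fixC2_0 j (Nat.zero_le j) hj
theorem ok_pos1_0 : allBelow (fun j => chkPos ord1 pos1 4095 (Nat.add 0 j)) 4095 = true := by decide +kernel
theorem ok_pos1 : ∀ j < 4095, chkPos ord1 pos1 4095 j = true := by
  intro j hj
  exact allBelow_off (chkPos ord1 pos1 4095) 0 4095 ok_pos1_0 j (Nat.zero_le j) hj
theorem ok_sort1_0 : allBelow (fun j => chkSort 13 C1T ord1 (Nat.add 0 j)) 4094 = true := by decide +kernel
theorem ok_sort1 : ∀ j < 4094, chkSort 13 C1T ord1 j = true := by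
  intro j hj
  exact allBelow_off (chkSort 13 C1T ord1) 0 4094 ok_sort1_0 j (Nat.zero_le j) hj
theorem ok_pos2_0 : allBelow (fun j => chkPos ord2 pos2 1024 (Nat.add 0 j)) 1024 = true := by decide +kernel
theorem ok_pos2 : ∀ j < 1024, chkPos ord2 pos2 1024 j = true := by
  intro j hj
  exact allBelow_off (chkPos ord2 pos2 1024) 0 1024 ok_pos2_0 j (Nat.zero_le j) hj
theorem ok_sort2_0 : allBelow (fun j => chkSort 2 C2T ord2 (Nat.add 0 j)) 1023 = true := by decide +kernel
theorem ok_sort2 : ∀ j < 1023, chkSort 2 C2T ord2 j = true := by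
  intro j hj
  exact allBelow_off (chkSort 2 C2T ord2) 0 1023 ok_sort2_0 j (Nat.zero_le j) hj
theorem ok_root_0 : allBelow (fun j => chkRoot C1T C2T TT gN ri rj rk (Nat.add 0 j)) 36 = true := by decide +kernel
theorem ok_root : ∀ j < 36, chkRoot C1T C2T TT gN ri rj rk j = true := by
  intro j hj
  exact allBelow_off (chkRoot C1T C2T TT gN ri rj rk) 0 36 ok_root_0 j (Nat.zero_le j) hj
theorem ok_inv_0 : allBelow (fun j => chkInv Ggen GgenI (Nat.add 0 j)) 2 = true := by decide +kernel
theorem ok_inv : ∀ j < 2, chkInv Ggen GgenI j = true := by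
  intro j hj
  exact allBelow_off (chkInv Ggen GgenI) 0 2 ok_inv_0 j (Nat.zero_le j) hj
theorem ok_distA_0 : allBelow (fun j => chkDist modelA TL (Nat.add 0 j)) 60 = true := by decide +kernel
theorem ok_distA : ∀ j < 60, chkDist modelA TL j = true := by
  intro j hj
  exact allBelow_off (chkDist modelA TL) 0 60 ok_distA_0 j (Nat.zero_le j) hj

theorem ok_wA : allBelow (fun l => Nat.beq (GA l) (modelA.evalW gN (wA l))) 2 = true := by decide +kernel
theorem ok_pw : allBelow (fun l => Nat.beq (model.evalW Ggen (pw l)) (Pgen l)) 3 = true := by decide +kernel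
theorem ok_T01 : Tgen 0 = Pgen 0 ∧ Tgen 1 = Pgen 1 := by decide +kernel
theorem ok_L6 : Nat.beq (model.evalW Ggen wo6) L6 = true := by decide +kernel
theorem ok_L10 : Nat.beq (model.evalW Ggen wo10) L10 = true := by decide +kernel
theorem ok_L7 : Nat.beq (model.evalW Ggen wo7) L7 = true := by decide +kernel
theorem ok_L13 : Nat.beq (model.evalW Ggen wo13) L13 = true := by decide +kernel
theorem L6_pow : model.powP L6 6 = oneP := by decide +kernel
theorem L6_ne3 : model.neq (model.powP L6 3) oneP = true := by decide +kernel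
theorem L6_ne2 : model.neq (model.powP L6 2) oneP = true := by decide +kernel
theorem L10_pow : model.powP L10 10 = oneP := by decide +kernel
theorem L10_ne5 : model.neq (model.powP L10 5) oneP = true := by decide +kernel
theorem L10_ne2 : model.neq (model.powP L10 2) oneP = true := by decide +kernel
theorem L7_pow : model.powP L7 7 = oneP := by decide +kernel
theorem L7_ne : model.neq L7 oneP = true := by decide +kernel
theorem L13_pow : model.powP L13 13 = oneP := by decide +kernel
theorem L13_ne : model.neq L13 oneP = true := by decide +kernel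
theorem N7_ok : toB N7 * (toB L7 + 1) = 1 := by decide +kernel
theorem N13_ok : toB N13 * (toB L13 + 1) = 1 := by decide +kernel

theorem C1ok : COK model C1D where
  c0 := by decide +kernel
  npos := by decide
  step := C1ok_step
  par := C1ok_par

theorem C2ok : COK model C2D where
  c0 := by decide +kernel
  npos := by decide
  step := C2ok_step
  par := C2ok_par

end Cfsg.Agent.Lib.Helper60.G24
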